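import Cfsg.Agent.Lib.Schur.U62.Pres

set_option autoImplicit false
set_option linter.all false

namespace CfsgLib.SchurU62

namespace L1

open CfsgLib.CosetEnum

/-- Relator words in local letters. -/
def lsl : List (List ℕ) := [[0, 0]]

/-- Subgroup letters. -/
def lsub : List (List ℕ) := []

noncomputable def col0 : Tr :=
 (.leaf (nat_lit 0x1))
noncomputable def table : List Tr := [col0]
noncomputable def facts : Tr :=
 (.leaf (nat_lit 0x100000))
noncomputable def words : Tr :=
 (.leaf (nat_lit 0x1100100100100100))
noncomputable def subs : Tr := .leaf (nat_lit 0x0)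
noncomputable def lives : Tr :=
 (.leaf (nat_lit 0x100000))
noncomputable def entryFact : Tr :=
 (.leaf (nat_lit 0x2000001))

end L1

end CfsgLib.SchurU62
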