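import Cfsg.Agent.Lib.Schur.U62.L1D

set_option autoImplicit false
set_option linter.all false

namespace CfsgLib.SchurU62

namespace L1

open CfsgLib.CosetEnum

noncomputable def items0 : List ℕ := [
nat_lit 0x0]
theorem facts_ok0 : checkFacts facts 18364758544493064720 words 12 subs 2 items0 0 = true := by decide +kernel

end L1

end CfsgLib.SchurU62
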