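import Cfsg.Agent.Lib.Schur.U62.Pres

set_option autoImplicit false
set_option linter.all false

namespace CfsgLib.SchurU62

namespace L2

open CfsgLib.CosetEnum

/-- Relator words in local letters. -/
def lsl : List (List ℕ) := [[0, 0],
  [0, 1, 0, 1, 0, 1],
  [1, 1]]

/-- Subgroup letters. -/
def lsub : List (List ℕ) := [[0]]

noncomputable def col0 : Tr :=
 (.leaf (nat_lit 0x10000200000))
noncomputable def col1 : Tr :=
 (.leaf (nat_lit 0x20000000001))
noncomputable def table : List Tr := [col0, col1]
noncomputable def facts : Tr :=
 (.leaf (nat_lit 0x10000200002000000000000000000200001010000100000))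
noncomputable def words : Tr :=
 (.leaf (nat_lit 0x10000111000010000001110000111000011100001111010101110101010101011101010101010111010101101010101010111010101010101110101010101010000100000010000001000000100))
noncomputable def subs : Tr :=
 (.leaf (nat_lit 0x100000010))
noncomputable def lives : Tr :=
 (.leaf (nat_lit 0x20000100000))
noncomputable def entryFact : Tr :=
 (.leaf (nat_lit 0x7000004000002000003000001000005))

end L2

end CfsgLib.SchurU62
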