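import Cfsg.Agent.Lib.Schur.U62.L3P0

set_option autoImplicit false
set_option linter.all false

namespace CfsgLib.SchurU62

namespace L3

open CfsgLib.CosetEnum

theorem facts_ok_upto18 : ∀ j < 18, ∃ item, checkFact facts 18364758544493064720 words 52 subs 9 j item = true := fun j hj =>
  have h : 0 ≤ j := Nat.zero_le j
  checkFacts_spec _ _ _ _ _ _ items0 0 facts_ok0 j h (lt_of_lt_of_eq hj (by decide +kernel))
theorem rows_0 : checkRows facts 18364758544493064720 lives entryFact table 9 3 18 9 0 = true := by decide +kernel
theorem rows_ok_upto9 : ∀ k < 9, checkRow facts 18364758544493064720 lives entryFact 9 3 18 k table 0 = true := fun k hk =>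
  have h : 0 ≤ k := Nat.zero_le k
  checkRows_spec _ _ _ _ _ _ _ _ _ _ rows_0 k h hk
theorem words_fit : words.fits 52 64 = true := by decide +kernel
theorem words_eq : listEq (words.entries 52 64) (allCodes 18364758544493064720 3 lsl) = true := by decide +kernel
theorem subs_fit : subs.fits 52 64 = true := by decide +kernel
theorem subs_eq : listEq (subs.entries 52 64) (subCodes 18364758544493064720 lsub) = true := by decide +kernel
theorem lives_zero : Nat.beq (lives.get 20 0) 0 = true := by decide +kernel

theorem covers {X : Type*} [Group X] {g : ℕ → X} (h : Rels ls g) : CoversCosets (Level g [0, 1, 2]) (Level g [0, 1]) 9 :=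
  covers_level h.h15 h.hinv ls h.words [0, 1, 2] [0, 1] 18364758544493064720 (ip := 18364758544493064720) (by decide +kernel) lsl lsub (by decide +kernel) (by decide +kernel)
    facts L3.words subs lives entryFact L3.table 52 64 9 18 9 3 rfl rfl (by omega)
    words_fit words_eq subs_fit subs_eq facts_ok_upto18 lives_zero rows_ok_upto9

end L3

end CfsgLib.SchurU62
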