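import Cfsg.Agent.Lib.Schur.U62.Pres

set_option autoImplicit false
set_option linter.all false

namespace CfsgLib.SchurU62

namespace L3

open CfsgLib.CosetEnum

/-- Relator words in local letters. -/
def lsl : List (List ℕ) := [[0, 0],
  [0, 1, 0, 1, 0, 1],
  [0, 2, 0, 2, 0, 2],
  [1, 1],
  [1, 2, 1, 2, 1, 2],
  [2, 2],
  [2, 0, 2, 1, 2, 0, 2, 1, 2, 0, 2, 1]]

/-- Subgroup letters. -/
def lsub : List (List ℕ) := [[0], [1]]

noncomputable def col0 : Tr :=
 (.leaf (nat_lit 0x80000300004000050000600007000010000200000))
noncomputable def col1 : Tr :=
 (.leaf (nat_lit 0x80000600007000050000200001000040000300000))
noncomputable def col2 : Tr :=
 (.leaf (nat_lit 0x70000800006000040000500003000020000000001))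
noncomputable def table : List Tr := [col0, col1, col2]
noncomputable def facts : Tr :=
 (.leaf (nat_lit 0x20000600006000000800008010000500005010000800008000000300007000000500005020000300003020000200002010000000000000000000000020000800007010000700006000000600004020000500004010000400002010000300001000000200001020000100000))
noncomputable def words : Tr :=
 (.node 64
 (.leaf (nat_lit 0x1212021202120102120212021212021202120211120212021202112021202120212120212021201021202120212120212021202111202120212021212021202120102120212021212021202120211120212021202121202120212010212021202121202120212021000000000012200000000001220000000000122000000000012200000011212120000001212121000000112121200000012121210000001121212000000121212100000012121210000001121212000000121212100000011212120000001212121000000112121200000000001110000000000111000000000011100000000001110000001020202000000120202000000010202020000001202020000000102020200000012020200000001202020000000102020200000012020200000001020202000000120202000000010202020000001010101000000110101000000010101010000001101010000000101010100000011010100000001101010000000101010100000011010100000001010101000000110101000000010101010000000000100000000000010000000000001000000000000100))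
 (.leaf (nat_lit 0x100000000001220000000000111000000000010012120212021201021202120212120212021202111202120212021212021202120102120212021212021202120211120212021202)))
noncomputable def subs : Tr :=
 (.leaf (nat_lit 0x11000000000001100000000000100000000000010))
noncomputable def lives : Tr :=
 (.leaf (nat_lit 0x80000700006000050000400003000020000100000))
noncomputable def entryFact : Tr :=
 (.leaf (nat_lit 0x1000001d00002100000f00000e00001b00002300000d00000c00000a00001f00001900000900000800000b00001700000600001c000015000007000004000002000005000003000001000013000011))

end L3

end CfsgLib.SchurU62
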