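import Cfsg.Agent.Lib.Schur.U62.L3D

set_option autoImplicit false
set_option linter.all false

namespace CfsgLib.SchurU62

namespace L3

open CfsgLib.CosetEnum

noncomputable def items0 : List ℕ := [
nat_lit 0x0,
nat_lit 0x0,
nat_lit 0x0,
nat_lit 0x0,
nat_lit 0x0,
nat_lit 0x0,
nat_lit 0x0,
nat_lit 0x0,
nat_lit 0x1fffffe00001,
nat_lit 0x1fffffe00005,
nat_lit 0x600000200002400000400000800020,
nat_lit 0xa00000200002800000400000c00040,
nat_lit 0x1200000e00002a00000600000200002600000400000800002c00001000001400064,
nat_lit 0xa00000800001000001800001c0000a,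
nat_lit 0x1e00003800002e00000a00000200002400000400000c00003000003600002000060,
nat_lit 0x1200000e00002a00001000001400042,
nat_lit 0x1e00003800002e00003600002000022,
nat_lit 0x1600001400003200001200001800020]
theorem facts_ok0 : checkFacts facts 18364758544493064720 words 52 subs 9 items0 0 = true := by decide +kernel

end L3

end CfsgLib.SchurU62
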