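import Cfsg.Agent.Lib.Schur.U62.L4P0

set_option autoImplicit false
set_option linter.all false

namespace CfsgLib.SchurU62

namespace L4

open CfsgLib.CosetEnum

theorem facts_ok_upto512 : ∀ j < 512, ∃ item, checkFact facts 18364758544493064720 words 76 subs 276 j item = true := fun j hj =>
  have h : 0 ≤ j := Nat.zero_le j
  checkFacts_spec _ _ _ _ _ _ items0 0 facts_ok0 j h (lt_of_lt_of_eq hj (by decide +kernel))
theorem facts_ok_upto696 : ∀ j < 696, ∃ item, checkFact facts 18364758544493064720 words 76 subs 276 j item = true := fun j hj =>
  (Nat.lt_or_ge j 512).elim (facts_ok_upto512 j) fun h =>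
    checkFacts_spec _ _ _ _ _ _ items512 512 facts_ok512 j h (lt_of_lt_of_eq hj (by decide +kernel))
theorem rows_0 : checkRows facts 18364758544493064720 lives entryFact table 128 4 696 128 0 = true := by decide +kernel
theorem rows_ok_upto128 : ∀ k < 128, checkRow facts 18364758544493064720 lives entryFact 128 4 696 k table 0 = true := fun k hk =>
  have h : 0 ≤ k := Nat.zero_le k
  checkRows_spec _ _ _ _ _ _ _ _ _ _ rows_0 k h hk
theorem words_fit : words.fits 76 64 = true := by decide +kernel
theorem words_eq : listEq (words.entries 76 64) (allCodes 18364758544493064720 4 lsl) = true := by decide +kernel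
theorem subs_fit : subs.fits 76 64 = true := by decide +kernel
theorem subs_eq : listEq (subs.entries 76 64) (subCodes 18364758544493064720 lsub) = true := by decide +kernel
theorem lives_zero : Nat.beq (lives.get 20 0) 0 = true := by decide +kernel

theorem covers {X : Type*} [Group X] {g : ℕ → X} (h : Rels ls g) : CoversCosets (Level g [0, 1, 2, 3]) (Level g [0, 1, 2]) 128 :=
  covers_level h.h15 h.hinv ls h.words [0, 1, 2, 3] [0, 1, 2] 18364758544493064720 (ip := 18364758544493064720) (by decide +kernel) lsl lsub (by decide +kernel) (by decide +kernel)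
    facts L4.words subs lives entryFact L4.table 76 64 276 696 128 4 rfl rfl (by omega)
    words_fit words_eq subs_fit subs_eq facts_ok_upto696 lives_zero rows_ok_upto128

end L4

end CfsgLib.SchurU62
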