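import Cfsg.Agent.Lib.Schur.U62.L5D

set_option autoImplicit false
set_option linter.all false

namespace CfsgLib.SchurU62

namespace L5

open CfsgLib.CosetEnum

noncomputable def items24576 : List ℕ := [
nat_lit 0x13ade008b5200000,
nat_lit 0x13ada008b56000a0]
theorem facts_ok24576 : checkFacts facts 18364758544493064720 words 76 subs 8926 items24576 24576 = true := by decide +kernel

end L5

end CfsgLib.SchurU62
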