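import Cfsg.Agent.Lib.CosetEnum.Fi22U6.Model
import Cfsg.Agent.Lib.CosetEnum.Corr
import Cfsg.Agent.Lib.Schur.U62.Cert

/-!
Six transvections generating `PSU₆(2)` and a test for equality of words in them.
-/

set_option autoImplicit false

namespace CfsgLib.SchurU62

open CfsgLib.CosetEnum CfsgLib.CosetEnum.Fi22U6

local notation "Q" => Cfsg.PSU 6 F4 2

/-- A generator of the model. -/
def u' (j : ℕ) : Q := if h : j < 10 then QuotientGroup.mk (u ⟨j, h⟩) else 1

/-- The six transvections. -/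
def t (i : ℕ) : Q := ((Cert.tw.getD i []).map u').prod

theorem ρ_u' {j : ℕ} (hj : j < 10) (k : Fin 693) : ((ρbar (u' j) k : Fin 693) : ℕ) = act hTable j k := by
  rw [u', dif_pos hj, ρbar_mk]
  exact ρ_u ⟨j, hj⟩ k

theorem ρ_uwords : ∀ l : List ℕ, (∀ j ∈ l, j < 10) → ∀ k : Fin 693,
    ((ρbar (l.map u').prod k : Fin 693) : ℕ) = scan hTable l.reverse k := by
  intro l
  induction l with
  | nil => intro _ k; simp [scan_nil]
  | cons x r ih =>
    intro hl k
    rw [List.map_cons, List.prod_cons, map_mul, Equiv.Perm.mul_apply, ρ_u' (hl x (by simp)),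
      ih (fun y hy => hl y (List.mem_cons_of_mem _ hy)), List.reverse_cons, scan_append, scan_cons, scan_nil]

theorem tw_lt : ∀ i < 6, ∀ j ∈ Cert.tw.getD i [], j < 10 := by decide

/-- The table of a transvection agrees with its word. -/
noncomputable def twOK (k : ℕ) : Bool :=
  allFrom (fun i => Nat.beq (scan hTable (Cert.tw.getD i []).reverse k) (act Cert.tTable i k)) 6 0

theorem tw_ok : allFrom twOK 693 0 = true := by decide +kernel

theorem ρ_t {i : ℕ} (hi : i < 6) (k : Fin 693) : ((ρbar (t i) k : Fin 693) : ℕ) = act Cert.tTable i k := by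
  rw [t, ρ_uwords _ (tw_lt i hi)]
  exact Nat.eq_of_beq_eq_true (allFrom_spec _ _ _
    (allFrom_spec _ _ _ tw_ok k.1 (Nat.zero_le _) (by have := k.2; omega)) i (Nat.zero_le _) (by omega))

/-- The product of a word. -/
def T (l : List ℕ) : Q := (l.map t).prod

theorem T_nil : T [] = 1 := rfl

theorem T_cons (x : ℕ) (r : List ℕ) : T (x :: r) = t x * T r := by
  simp [T]

theorem T_append (a b : List ℕ) : T (a ++ b) = T a * T b := by
  simp [T]

theorem T_singleton (i : ℕ) : T [i] = t i := by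
  simp [T]

theorem ρ_T : ∀ l : List ℕ, (∀ x ∈ l, x < 6) → ∀ k : Fin 693,
    ((ρbar (T l) k : Fin 693) : ℕ) = scan Cert.tTable l.reverse k := by
  intro l
  induction l with
  | nil => intro _ k; simp [T_nil, scan_nil]
  | cons x r ih =>
    intro hl k
    rw [T_cons, map_mul, Equiv.Perm.mul_apply, ρ_t (hl x (by simp)),
      ih (fun y hy => hl y (List.mem_cons_of_mem _ hy)), List.reverse_cons, scan_append, scan_cons, scan_nil]

/-- The test for equality of two words. -/
noncomputable def eqT (l₁ l₂ : List ℕ) : Bool :=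
  l₁.all (fun x => Nat.blt x 6) && l₂.all (fun x => Nat.blt x 6) &&
    allFrom (fun k => Nat.beq (scan Cert.tTable l₁.reverse k) (scan Cert.tTable l₂.reverse k)) 693 0

theorem eqT_spec {l₁ l₂ : List ℕ} (h : eqT l₁ l₂ = true) : T l₁ = T l₂ := by
  simp only [eqT, Bool.and_eq_true, List.all_eq_true] at h
  refine ρbar_injective (Equiv.ext fun k => Fin.ext ?_)
  rw [ρ_T _ (fun x hx => Nat.le_of_ble_eq_true (h.1.1 x hx)), ρ_T _ (fun x hx => Nat.le_of_ble_eq_true (h.1.2 x hx))]
  exact Nat.eq_of_beq_eq_true (allFrom_spec _ _ _ h.2 k.1 (Nat.zero_le _) (by have := k.2; omega))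

theorem sq_ok : allFrom (fun i => eqT [i, i] []) 6 0 = true := by decide +kernel

theorem t_sq {i : ℕ} (hi : i < 6) : t i * t i = 1 := by
  have h := eqT_spec (allFrom_spec _ _ _ sq_ok i (Nat.zero_le _) (by omega))
  simpa [T] using h

theorem T_reverse : ∀ l : List ℕ, (∀ x ∈ l, x < 6) → T l.reverse = (T l)⁻¹ := by
  intro l
  induction l with
  | nil => simp [T_nil]
  | cons x r ih =>
    intro hl
    rw [List.reverse_cons, T_append, ih (fun y hy => hl y (List.mem_cons_of_mem _ hy)), T_singleton, T_cons x r,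
      mul_inv_rev, inv_eq_of_mul_eq_one_right (t_sq (hl x (by simp)))]

/-- The table of a generator of the model agrees with its word. -/
noncomputable def uwOK (k : ℕ) : Bool :=
  allFrom (fun j => Nat.beq (scan Cert.tTable (Cert.uw.getD j []).reverse k) (act hTable j k)) 10 0

theorem uw_ok : allFrom uwOK 693 0 = true := by decide +kernel

theorem uw_lt : ∀ j < 10, ∀ i ∈ Cert.uw.getD j [], i < 6 := by decide

theorem u'_eq {j : ℕ} (hj : j < 10) : u' j = T (Cert.uw.getD j []) := by
  refine ρbar_injective (Equiv.ext fun k => Fin.ext ?_)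
  rw [ρ_u' hj, ρ_T _ (uw_lt j hj)]
  exact (Nat.eq_of_beq_eq_true (allFrom_spec _ _ _
    (allFrom_spec _ _ _ uw_ok k.1 (Nat.zero_le _) (by have := k.2; omega)) j (Nat.zero_le _) (by omega))).symm

theorem closure_t : Subgroup.closure {b : Q | ∃ i < 6, b = t i} = ⊤ := by
  set K := Subgroup.closure {b : Q | ∃ i < 6, b = t i}
  have hK : ∀ l : List ℕ, (∀ x ∈ l, x < 6) → T l ∈ K := fun l hl =>
    Subgroup.list_prod_mem _ fun y hy => by
      obtain ⟨x, hx, rfl⟩ := List.mem_map.mp hy
      exact Subgroup.subset_closure ⟨x, hl x hx, rfl⟩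
  have hs := surjective_of_hits K.subtype fun j => ⟨⟨T (Cert.uw.getD j.1 []), hK _ (uw_lt j.1 j.2)⟩, by
    show T _ = _
    rw [← u'_eq j.2, u', dif_pos j.2]⟩
  refine eq_top_iff.mpr fun x _ => ?_
  obtain ⟨y, rfl⟩ := hs x
  exact y.2

end CfsgLib.SchurU62
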