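import Cfsg.Prelude.Def_KGroupFacts
import Cfsg.Agent.Lib.Schur.U62.Words
import Cfsg.Agent.Lib.Schur.CoxeterCover
import Cfsg.Agent.Lib.Schur.Multiplier

/-!
In a central extension of `PSU₆(2)` a lift of a transvection commutes with every lift of an element of the
centraliser of the transvection that is a product of the listed centralising transvections.
-/

set_option autoImplicit false
set_option linter.unusedSectionVars false

namespace CfsgLib.SchurU62

open CfsgLib.CosetEnum CfsgLib.CosetEnum.Fi22U6 CfsgLib.Schur.CoxeterCover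
open scoped commutatorElement

local notation "Q" => Cfsg.PSU 6 F4 2

/-- The word of a listed centralising transvection. -/
def sWord (k : ℕ) : List ℕ := Cert.sw.getD k [] ++ [0] ++ (Cert.sw.getD k []).reverse

/-- A product of listed centralising transvections, as a word. -/
def sCat (d : List ℕ) : List ℕ := (d.map sWord).flatten

theorem sw_lt : ∀ k < 8, ∀ x ∈ Cert.sw.getD k [], x < 6 := by decide

theorem pw_lt : ∀ i < 6, ∀ x ∈ Cert.pw.getD i [], x < 6 := by decide

/-- The tests on the listed transvections. -/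
noncomputable def sOK (k : ℕ) : Bool :=
  eqT (sWord k ++ [0]) ([0] ++ sWord k) && eqT (sWord k ++ sWord k) [] &&
    (Nat.beq k 7 || eqT (sWord k ++ sWord (k + 1) ++ sWord k ++ sWord (k + 1) ++ sWord k) (sWord (k + 1)))

theorem s_ok : allFrom sOK 8 0 = true := by decide +kernel

theorem odd_ok : eqT (sCat Cert.odd) [] = true := by decide +kernel

theorem odd_spec : (∀ k ∈ Cert.odd, k < 8) ∧ Cert.odd.length % 2 = 1 := by decide

theorem pw_ok : allFrom (fun i => eqT (Cert.pw.getD i [] ++ [0] ++ (Cert.pw.getD i []).reverse) [i]) 6 0 = true := by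
  decide +kernel

section lifts

variable {Γ : Type*} [Group Γ] (σ : Γ →* Q) (hc : ∀ a, σ a = 1 → ∀ b : Γ, Commute a b)
  (X : ℕ → Γ) (hX : ∀ i, σ (X i) = t i)

/-- A lift of a word. -/
def XW (l : List ℕ) : Γ := (l.map X).prod

include hX in
theorem σ_XW (l : List ℕ) : σ (XW X l) = T l := by
  rw [XW, map_list_prod, List.map_map]
  exact congrArg _ (List.map_congr_left fun i _ => hX i)

/-- The conjugate of the first lift by a lifted word. -/
def cl (l : List ℕ) : Γ := XW X l * X 0 * (XW X l)⁻¹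

include hX in
theorem σ_cl {l : List ℕ} (hl : ∀ x ∈ l, x < 6) : σ (cl X l) = T (l ++ [0] ++ l.reverse) := by
  rw [cl, map_mul, map_mul, map_inv, σ_XW σ X hX, hX, T_append, T_append, T_singleton, T_reverse l hl]

/-- The listed lift. -/
def sLift (k : ℕ) : Γ := cl X (Cert.sw.getD k [])

include hX in
theorem σ_sLift {k : ℕ} (hk : k < 8) : σ (sLift X k) = T (sWord k) := σ_cl σ X hX (sw_lt k hk)

include hc in
theorem comm_congr {a b a' b' : Γ} (ha : σ a = σ a') (hb : σ b = σ b') : ⁅a, b⁆ = ⁅a', b'⁆ := by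
  have h1 := commute_div σ hc ha
  have h2 := commute_div σ hc hb
  have ea : a = a' * (a'⁻¹ * a) := by group
  have eb : b = b' * (b'⁻¹ * b) := by group
  rw [ea, eb]
  exact CfsgLib.Schur.commutatorElement_mul_center (Subgroup.mem_center_iff.mpr fun g => (h1 g).eq.symm)
    (Subgroup.mem_center_iff.mpr fun g => (h2 g).eq.symm)

include hc hX in
theorem sq_comm (g : Γ) : Commute (X 0 * X 0) g := by
  refine hc _ ?_ g
  rw [map_mul, hX]
  exact t_sq (by norm_num)

include hX in
theorem σ_sLift_comm {k : ℕ} (hk : k < 8) : σ (X 0) * σ (sLift X k) = σ (sLift X k) * σ (X 0) := by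
  have h := allFrom_spec _ _ _ s_ok k (Nat.zero_le _) (by omega)
  simp only [sOK, Bool.and_eq_true] at h
  have h1 := eqT_spec h.1.1
  rw [T_append, T_append, T_singleton] at h1
  rw [hX, σ_sLift σ X hX hk]
  exact h1.symm

include hc hX in
theorem comm_next {k : ℕ} (hk : k + 1 < 8) : ⁅X 0, sLift X (k + 1)⁆ = ⁅X 0, sLift X k⁆ := by
  set g := sLift X k * sLift X (k + 1) with hg
  have h := allFrom_spec _ _ _ s_ok k (Nat.zero_le _) (by omega)
  have h' := allFrom_spec _ _ _ s_ok (k + 1) (Nat.zero_le _) (by omega)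
  simp only [sOK, Bool.and_eq_true, Bool.or_eq_true] at h h'
  have h7 : Nat.beq k 7 = false := by
    cases hb : Nat.beq k 7
    · rfl
    · exact absurd (Nat.eq_of_beq_eq_true hb) (by omega)
  have h3 := eqT_spec (h.2.resolve_left (by rw [h7]; decide))
  have hsq := eqT_spec h.1.2
  have hsq' := eqT_spec h'.1.2
  simp only [T_append, T_nil] at h3 hsq hsq'
  have hA := σ_sLift σ X hX (show k < 8 by omega)
  have hB := σ_sLift σ X hX hk
  have hiA : (T (sWord k))⁻¹ = T (sWord k) := inv_eq_of_mul_eq_one_right hsq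
  have hiB : (T (sWord (k + 1)))⁻¹ = T (sWord (k + 1)) := inv_eq_of_mul_eq_one_right hsq'
  have e0 : σ (g * X 0 * g⁻¹) = σ (X 0) := by
    have hcm : Commute (σ g) (σ (X 0)) := by
      rw [hg, map_mul]
      exact Commute.mul_left (σ_sLift_comm σ X hX (by omega)).symm (σ_sLift_comm σ X hX hk).symm
    rw [map_mul, map_mul, map_inv, hcm.eq, mul_inv_cancel_right]
  have e1 : σ (g * sLift X k * g⁻¹) = σ (sLift X (k + 1)) := by
    rw [map_mul, map_mul, map_inv, hg, map_mul, hA, hB, mul_inv_rev, hiA, hiB]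
    simpa [mul_assoc] using h3
  calc ⁅X 0, sLift X (k + 1)⁆ = ⁅g * X 0 * g⁻¹, g * sLift X k * g⁻¹⁆ := comm_congr σ hc e0.symm e1.symm
    _ = g * ⁅X 0, sLift X k⁆ * g⁻¹ := by simp only [commutatorElement_def]; group
    _ = ⁅X 0, sLift X k⁆ := by
      have h4 := hc _ (map_commutator_eq_one σ (σ_sLift_comm σ X hX (show k < 8 by omega))) g
      rw [← h4.eq, mul_inv_cancel_right]

include hc hX in
theorem comm_const : ∀ k, k < 8 → ⁅X 0, sLift X k⁆ = ⁅X 0, sLift X 0⁆ := by
  intro k
  induction k with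
  | zero => intro _; rfl
  | succ k ih => intro hk; rw [comm_next σ hc X hX hk, ih (by omega)]

include hc hX in
theorem comm_prod : ∀ d : List ℕ, (∀ k ∈ d, k < 8) →
    ⁅X 0, (d.map (sLift X)).prod⁆ = ⁅X 0, sLift X 0⁆ ^ d.length := by
  intro d
  induction d with
  | nil => intro _; simp
  | cons k r ih =>
    intro hd
    set e := ⁅X 0, sLift X 0⁆ with he
    have hec : ∀ b, Commute e b := hc e (map_commutator_eq_one σ (σ_sLift_comm σ X hX (by norm_num)))
    have e1 : ⁅X 0, sLift X k * (r.map (sLift X)).prod⁆ =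
        ⁅X 0, sLift X k⁆ * (sLift X k * ⁅X 0, (r.map (sLift X)).prod⁆ * (sLift X k)⁻¹) := by
      simp only [commutatorElement_def]; group
    rw [List.map_cons, List.prod_cons, e1, comm_const σ hc X hX k (hd k (by simp)),
      ih (fun j hj => hd j (List.mem_cons_of_mem _ hj)), List.length_cons, pow_succ', ← he,
      ← ((hec (sLift X k)).pow_left r.length).eq, mul_inv_cancel_right]

include hX in
theorem σ_sprod : ∀ d : List ℕ, (∀ k ∈ d, k < 8) → σ (d.map (sLift X)).prod = T (sCat d) := by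
  intro d
  induction d with
  | nil => intro _; simp [sCat, T_nil]
  | cons k r ih =>
    intro hd
    rw [List.map_cons, List.prod_cons, map_mul, σ_sLift σ X hX (hd k (by simp)),
      ih (fun j hj => hd j (List.mem_cons_of_mem _ hj))]
    simp only [sCat, List.map_cons, List.flatten_cons, T_append]

include hc hX in
theorem comm_zero : ⁅X 0, sLift X 0⁆ = 1 := by
  set e := ⁅X 0, sLift X 0⁆ with he
  have hone : ∀ x, σ x = 1 → ⁅X 0, x⁆ = 1 := fun x hx =>
    commutatorElement_eq_one_iff_commute.mpr (hc x hx (X 0)).symm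
  have h2 : e ^ 2 = 1 := by
    have h := comm_prod σ hc X hX [0, 0] (by decide)
    rw [hone _ (by
      rw [σ_sprod σ X hX _ (by decide)]
      have h0 := allFrom_spec _ _ _ s_ok 0 (Nat.zero_le _) (by omega)
      simp only [sOK, Bool.and_eq_true] at h0
      have := eqT_spec h0.1.2
      simpa [sCat, T_nil] using this)] at h
    exact h.symm
  have ho := comm_prod σ hc X hX Cert.odd odd_spec.1
  rw [hone _ (by rw [σ_sprod σ X hX _ odd_spec.1, eqT_spec odd_ok, T_nil])] at ho
  rw [← he, ← Nat.div_add_mod Cert.odd.length 2, odd_spec.2, pow_succ, pow_mul, h2, one_pow, one_mul] at ho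
  exact ho.symm

include hc hX in
/-- The main point: lifts of products of the listed transvections centralise the first lift. -/
theorem fix (g : Γ) (d : List ℕ) (hd : ∀ k ∈ d, k < 8) (h : σ g = T (sCat d)) : Commute g (X 0) := by
  have h1 : Commute (d.map (sLift X)).prod (X 0) := by
    refine (commutatorElement_eq_one_iff_commute.mp ?_).symm
    rw [comm_prod σ hc X hX d hd, comm_zero σ hc X hX, one_pow]
  have h2 := commute_div σ hc (h.trans (σ_sprod σ X hX d hd).symm) (X 0)
  have : g = (d.map (sLift X)).prod * (((d.map (sLift X)).prod)⁻¹ * g) := by group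
  rw [this]
  exact h1.mul_left h2

include hc hX in
theorem cl_eq (g g' : Γ) (d : List ℕ) (hd : ∀ k ∈ d, k < 8) (h : σ (g'⁻¹ * g) = T (sCat d)) :
    g * X 0 * g⁻¹ = g' * X 0 * g'⁻¹ := by
  have h1 := fix σ hc X hX _ d hd h
  calc g * X 0 * g⁻¹ = g' * ((g'⁻¹ * g) * X 0) * g⁻¹ := by group
    _ = g' * (X 0 * (g'⁻¹ * g)) * g⁻¹ := by rw [h1.eq]
    _ = g' * X 0 * g'⁻¹ := by group

/-- The lifts of the generators in one class. -/
def y (i : ℕ) : Γ := cl X (Cert.pw.getD i [])

include hX in
theorem σ_y {i : ℕ} (hi : i < 6) : σ (y X i) = t i := by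
  rw [y, σ_cl σ X hX (pw_lt i hi), eqT_spec (allFrom_spec _ _ _ pw_ok i (Nat.zero_le _) (by omega)), T_singleton]

include hc hX in
theorem y_sq (i : ℕ) : y X i * y X i = X 0 * X 0 := by
  rw [y, cl]
  set g := XW X (Cert.pw.getD i [])
  calc g * X 0 * g⁻¹ * (g * X 0 * g⁻¹) = g * (X 0 * X 0) * g⁻¹ := by group
    _ = X 0 * X 0 := by rw [← (sq_comm σ hc X hX g).eq, mul_inv_cancel_right]

include hX in
theorem σ_yprod : ∀ l : List ℕ, (∀ x ∈ l, x < 6) → σ (l.map (y X)).prod = T l := by
  intro l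
  induction l with
  | nil => intro _; simp [T_nil]
  | cons k r ih =>
    intro hl
    rw [List.map_cons, List.prod_cons, map_mul, σ_y σ X hX (hl k (by simp)),
      ih (fun j hj => hl j (List.mem_cons_of_mem _ hj)), T_cons]

end lifts

/-- The conjugating word of the left-hand transvection of a relation. -/
def lw (w : List ℕ) (i : ℕ) : List ℕ := w ++ Cert.pw.getD i []

/-- The left-hand transvection of a relation. -/
def aw (w : List ℕ) (i : ℕ) : List ℕ := w ++ [i] ++ w.reverse

/-- The test of one relation. -/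
noncomputable def recOK (r : ℕ × ℕ × List ℕ × ℕ × ℕ × List ℕ) : Bool :=
  match r with
  | (m, _, w, i, j, d) =>
    w.all (fun x => Nat.blt x 6) && Nat.blt i 6 && Nat.blt j 6 && d.all (fun x => Nat.blt x 8) &&
      (bif Nat.beq m 2 then eqT ((lw w i).reverse ++ [j] ++ lw w i) (sCat d)
        else Nat.beq m 3 && eqT ((Cert.pw.getD j []).reverse ++ aw w i ++ [j] ++ lw w i) (sCat d))

theorem recs_ok : Cert.recs.all recOK = true := by decide +kernel

section rels

variable {Γ : Type*} [Group Γ] (σ : Γ →* Q) (hc : ∀ a, σ a = 1 → ∀ b : Γ, Commute a b)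
  (X : ℕ → Γ) (hX : ∀ i, σ (X i) = t i)

include hc hX in
/-- The relations in the lifts. -/
theorem rec_spec {m o : ℕ} {w : List ℕ} {i j : ℕ} {d : List ℕ}
    (hr : (m, o, w, i, j, d) ∈ Cert.recs) :
    (∀ x ∈ w, x < 6) ∧ i < 6 ∧ j < 6 ∧
      ((m = 2 ∧ Commute ((w.map (y X)).prod * y X i * ((w.map (y X)).prod)⁻¹) (y X j)) ∨
       (m = 3 ∧ ((w.map (y X)).prod * y X i * ((w.map (y X)).prod)⁻¹) * y X j *
            ((w.map (y X)).prod * y X i * ((w.map (y X)).prod)⁻¹) =
          y X j * ((w.map (y X)).prod * y X i * ((w.map (y X)).prod)⁻¹) * y X j)) := by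
  have h := List.all_eq_true.mp recs_ok _ hr
  simp only [recOK, Bool.and_eq_true, List.all_eq_true] at h
  obtain ⟨⟨⟨⟨hw, hi⟩, hj⟩, hd⟩, ht⟩ := h
  have hw : ∀ x ∈ w, x < 6 := fun x hx => Nat.le_of_ble_eq_true (hw x hx)
  have hi : i < 6 := Nat.le_of_ble_eq_true hi
  have hj : j < 6 := Nat.le_of_ble_eq_true hj
  have hd : ∀ x ∈ d, x < 8 := fun x hx => Nat.le_of_ble_eq_true (hd x hx)
  refine ⟨hw, hi, hj, ?_⟩
  set W := (w.map (y X)).prod with hW
  set P := W * XW X (Cert.pw.getD i []) with hP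
  have hA : W * y X i * W⁻¹ = P * X 0 * P⁻¹ := by rw [y, cl, hP]; group
  have hσP : σ P = T (lw w i) := by rw [hP, map_mul, σ_yprod σ X hX w hw, σ_XW σ X hX, lw, T_append]
  have hσA : σ (W * y X i * W⁻¹) = T (aw w i) := by
    rw [map_mul, map_mul, map_inv, σ_yprod σ X hX w hw, σ_y σ X hX hi, aw, T_append, T_append, T_singleton,
      T_reverse w hw]
  have hlw : ∀ x ∈ lw w i, x < 6 := fun x hx =>
    (List.mem_append.mp hx).elim (hw x) (pw_lt i hi x)
  rcases hm : Nat.beq m 2 with _ | _
  · rw [hm] at ht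
    simp only [cond_false, Bool.and_eq_true] at ht
    refine Or.inr ⟨Nat.eq_of_beq_eq_true ht.1, ?_⟩
    set A := W * y X i * W⁻¹ with hAd
    set B := y X j with hB
    have h1 := eqT_spec ht.2
    rw [T_append, T_append, T_append, T_reverse _ (pw_lt j hj), T_singleton, ← hσA, ← hσP] at h1
    have h2 := cl_eq σ hc X hX (A * B * P) (XW X (Cert.pw.getD j [])) d hd (by
      rw [map_mul, map_inv, map_mul, map_mul, σ_y σ X hX hj, σ_XW σ X hX, ← h1]; group)
    have h3 : (A * B) * A * (A * B)⁻¹ = B := by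
      calc (A * B) * A * (A * B)⁻¹ = (A * B) * (P * X 0 * P⁻¹) * (A * B)⁻¹ := by rw [← hA]
        _ = (A * B * P) * X 0 * (A * B * P)⁻¹ := by group
        _ = _ := h2
    calc A * B * A = ((A * B) * A * (A * B)⁻¹) * (A * B) := by group
      _ = B * (A * B) := by rw [h3]
      _ = B * A * B := by group
  · rw [hm] at ht
    simp only [cond_true] at ht
    refine Or.inl ⟨Nat.eq_of_beq_eq_true hm, ?_⟩
    have h1 := eqT_spec ht
    rw [T_append, T_append, T_reverse _ hlw, T_singleton, ← hσP] at h1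
    have h2 := cl_eq σ hc X hX (y X j * P) P d hd (by
      rw [map_mul σ P⁻¹, map_inv, map_mul σ (y X j) P, σ_y σ X hX hj, ← h1]; group)
    rw [← hA] at h2
    show W * y X i * W⁻¹ * y X j = y X j * (W * y X i * W⁻¹)
    calc W * y X i * W⁻¹ * y X j = ((y X j * P) * X 0 * (y X j * P)⁻¹) * y X j := by rw [h2]
      _ = y X j * (P * X 0 * P⁻¹) := by group
      _ = y X j * (W * y X i * W⁻¹) := by rw [← hA]

end rels

end CfsgLib.SchurU62
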