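import Cfsg.Agent.Lib.Schur.U62.Upper
import Cfsg.Agent.Lib.CosetEnum.Fi22U6.Cover
import Cfsg.Agent.Lib.Leech.Triangle.FieldTransfer

/-!
A perfect central extension of `PSU₆(2)` by `3 × 2 × 2`: the fibre product of `SU₆(2)`, the double cover inside
`Fi₂₂` and its twist by the diagonal automorphism.
-/

set_option autoImplicit false
set_option linter.unusedSectionVars false

namespace CfsgLib.SchurU62

open CfsgLib.CosetEnum CfsgLib.CosetEnum.Fi22U6
open scoped commutatorElement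

local notation "Q" => Cfsg.PSU 6 F4 2
local notation "H" => CfsgLib.CosetEnum.Fi22.H

/-- The tables of the diagonal automorphism are inverse permutations. -/
noncomputable def dOK (k : ℕ) : Bool :=
  strict (Cert.dCol.get 20 k) fun a => strict (Cert.dInv.get 20 k) fun b =>
    Nat.blt a 693 && Nat.blt b 693 && Nat.beq (Cert.dInv.get 20 a) k && Nat.beq (Cert.dCol.get 20 b) k

theorem d_ok : allFrom dOK 693 0 = true := by decide +kernel

theorem d_spec (k : Fin 693) : Cert.dCol.get 20 k.1 < 693 ∧ Cert.dInv.get 20 k.1 < 693 ∧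
    Cert.dInv.get 20 (Cert.dCol.get 20 k.1) = k.1 ∧ Cert.dCol.get 20 (Cert.dInv.get 20 k.1) = k.1 := by
  have h := allFrom_spec _ _ _ d_ok k.1 (Nat.zero_le _) (by have := k.2; omega)
  simp only [dOK, strict_eq, Bool.and_eq_true] at h
  exact ⟨Nat.le_of_ble_eq_true h.1.1.1, Nat.le_of_ble_eq_true h.1.1.2, Nat.eq_of_beq_eq_true h.1.2,
    Nat.eq_of_beq_eq_true h.2⟩

attribute [local irreducible] Cert.dCol Cert.dInv

/-- The permutation of the points induced by a diagonal matrix. -/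
noncomputable def dperm : Equiv.Perm (Fin 693) where
  toFun k := ⟨Cert.dCol.get 20 k.1, (d_spec k).1⟩
  invFun k := ⟨Cert.dInv.get 20 k.1, (d_spec k).2.1⟩
  left_inv k := Fin.ext (d_spec k).2.2.1
  right_inv k := Fin.ext (d_spec k).2.2.2

/-- The twisted action. -/
noncomputable def ρ' : Q →* Equiv.Perm (Fin 693) :=
  (MulAut.conj dperm⁻¹).toMonoidHom.comp ρbar

theorem ρ'_injective : Function.Injective ρ' := (MulAut.conj dperm⁻¹).injective.comp ρbar_injective

theorem ρ'_apply (q : Q) (k : Fin 693) : ρ' q k = dperm.symm (ρbar q (dperm k)) := rfl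

/-- The words of the twisted generators. -/
noncomputable def iwOK (k : ℕ) : Bool :=
  allFrom (fun j => Nat.beq (scan hTable (Cert.iw.getD j []).reverse (Cert.dCol.get 20 k))
    (Cert.dCol.get 20 (act hTable j k))) 10 0

theorem iw_ok : allFrom iwOK 693 0 = true := by decide +kernel

theorem iw_lt : ∀ j < 10, ∀ x ∈ Cert.iw.getD j [], x < 10 := by decide

theorem hcorr (j : Fin 10) (k : Fin 693) : Fi22.π (hgen j) (σ k) = σ (ρbar (u' j.1) k) := by
  refine Fin.ext ?_
  rw [π_hgen]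
  show act Fi22.subTable j.1 (sig.get 20 k.1) = sig.get 20 ((ρbar (u' j.1) k : Fin 693) : ℕ)
  rw [ρ_u' j.2]
  exact (corr_spec k).2.2 j

theorem hcorr' (j : Fin 10) (k : Fin 693) :
    Fi22.π (hgen j) (σ k) = σ (ρ' (((Cert.iw.getD j.1 []).map u').prod) k) := by
  rw [hcorr]
  congr 1
  rw [ρ'_apply, Equiv.eq_symm_apply]
  refine Fin.ext ?_
  rw [ρ_uwords _ (iw_lt j.1 j.2)]
  show Cert.dCol.get 20 ((ρbar (u' j.1) k : Fin 693) : ℕ) = scan hTable _ (Cert.dCol.get 20 k.1)
  rw [ρ_u' j.2]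
  exact (Nat.eq_of_beq_eq_true (allFrom_spec _ _ _
    (allFrom_spec _ _ _ iw_ok k.1 (Nat.zero_le _) (by have := k.2; omega)) j.1 (Nat.zero_le _)
    (by have := j.2; omega))).symm

theorem exists_homs : ∃ f g : H →* Q, (∀ j, f (e j) = u' j.1) ∧
    (∀ j, g (e j) = ((Cert.iw.getD j.1 []).map u').prod) ∧ Function.Surjective f ∧ Function.Surjective g ∧
    Nat.card f.ker = 2 ∧ Nat.card g.ker = 2 := by
  haveI : Finite Cfsg.Spor.Fi22 := Fi22.finite
  haveI : Finite Q := inferInstance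
  obtain ⟨f, hf1, hf⟩ := exists_hom_of_corr Fi22.π ρbar ρbar_injective σ σ_injective hgen
    (fun j : Fin 10 => u' j.1) H H_le hcorr
  obtain ⟨g, hg1, hg⟩ := exists_hom_of_corr Fi22.π ρ' ρ'_injective σ σ_injective hgen
    (fun j : Fin 10 => ((Cert.iw.getD j.1 []).map u').prod) H H_le hcorr'
  have hs : Function.Surjective f := surjective_of_hits f fun j => ⟨e j, by
    rw [show f (e j) = u' j.1 from hf j (hgen_mem j), u', dif_pos j.2]⟩
  have hker : Nat.card f.ker = 2 := by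
    have h1 := f.ker.index_mul_card
    rw [Subgroup.index_ker, MonoidHom.range_eq_top.mpr hs, Subgroup.card_top, card_PSU, Fi22.card_H] at h1
    omega
  have hkg : g.ker = f.ker := by
    ext w
    have hfw : ∀ v : Q, (∀ k, Fi22.π (w : Cfsg.Spor.Fi22) (σ k) = σ (ρbar v k)) → v = f w :=
      fun v hv => ρbar_injective (Equiv.ext fun k => σ_injective ((hv k).symm.trans (hf1 w k)))
    have hgw : ∀ v : Q, (∀ k, Fi22.π (w : Cfsg.Spor.Fi22) (σ k) = σ (ρ' v k)) → v = g w :=
      fun v hv => ρ'_injective (Equiv.ext fun k => σ_injective ((hv k).symm.trans (hg1 w k)))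
    rw [MonoidHom.mem_ker, MonoidHom.mem_ker]
    constructor
    · intro h
      refine (hfw 1 fun k => ?_).symm
      rw [hg1 w k, h, map_one, map_one]
    · intro h
      refine (hgw 1 fun k => ?_).symm
      rw [hf1 w k, h, map_one, map_one]
  have hsg : Function.Surjective g := by
    rw [← MonoidHom.range_eq_top]
    refine Subgroup.eq_top_of_card_eq _ ?_
    have h1 := g.ker.index_mul_card
    rw [Subgroup.index_ker, Fi22.card_H, hkg, hker] at h1
    rw [card_PSU]
    omega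
  exact ⟨f, g, fun j => hf j (hgen_mem j), fun j => hg j (hgen_mem j), hs, hsg, hker, hkg ▸ hker⟩

/-- The lift of a word in the double cover. -/
def eW (l : List ℕ) : H := (l.map fun j => if h : j < 10 then e ⟨j, h⟩ else 1).prod

theorem map_eW (f : H →* Q) (v : ℕ → Q) (hf : ∀ j : Fin 10, f (e j) = v j.1) :
    ∀ l : List ℕ, (∀ j ∈ l, j < 10) → f (eW l) = (l.map v).prod := by
  intro l
  induction l with
  | nil => intro _; simp [eW]
  | cons x r ih =>
    intro hl
    have hx : x < 10 := hl x (by simp)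
    rw [eW, List.map_cons, List.prod_cons, map_mul, dif_pos hx, hf, List.map_cons, List.prod_cons]
    exact congrArg _ (ih fun y hy => hl y (List.mem_cons_of_mem _ hy))

theorem π_eW : ∀ l : List ℕ, (∀ j ∈ l, j < 10) → ∀ k : Fin 3510,
    ((Fi22.π ((eW l : H) : Cfsg.Spor.Fi22) k : Fin 3510) : ℕ) = scan Fi22.subTable l.reverse k := by
  intro l
  induction l with
  | nil => intro _ k; simp [eW, scan_nil]
  | cons x r ih =>
    intro hl k
    have hx : x < 10 := hl x (by simp)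
    have h1 : (eW (x :: r) : H) = e ⟨x, hx⟩ * eW r := by simp [eW, dif_pos hx]
    rw [h1, Subgroup.coe_mul, map_mul, Equiv.Perm.mul_apply]
    show ((Fi22.π (hgen ⟨x, hx⟩) _ : Fin 3510) : ℕ) = _
    rw [π_hgen, ih (fun y hy => hl y (List.mem_cons_of_mem _ hy)), List.reverse_cons, scan_append, scan_cons, scan_nil]

/-- A word through the twisting. -/
def twist (l : List ℕ) : List ℕ := (l.map fun j => Cert.iw.getD j []).flatten

theorem words_lt : (∀ j ∈ Cert.xw, j < 10) ∧ (∀ j ∈ Cert.yw, j < 10) := by decide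

theorem twist_lt : (∀ j ∈ twist Cert.xw, j < 10) ∧ (∀ j ∈ twist Cert.yw, j < 10) := by decide +kernel

theorem map_twist : ∀ l : List ℕ,
    ((twist l).map u').prod = (l.map fun j => ((Cert.iw.getD j []).map u').prod).prod := by
  intro l
  induction l with
  | nil => simp [twist]
  | cons x r ih =>
    rw [List.map_cons, List.prod_cons, ← ih]
    simp [twist]

theorem commute_ok : allFrom (fun k => Nat.beq (scan Fi22.subTable (Cert.xw ++ Cert.yw).reverse k)
    (scan Fi22.subTable (Cert.yw ++ Cert.xw).reverse k)) 3510 0 = true := by decide +kernel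

theorem noncommute_ok : Nat.beq (scan Fi22.subTable (twist Cert.xw ++ twist Cert.yw).reverse 1)
    (scan Fi22.subTable (twist Cert.yw ++ twist Cert.xw).reverse 1) = false := by decide +kernel

theorem eW_append (a b : List ℕ) : eW (a ++ b) = eW a * eW b := by
  show ((a ++ b).map fun j => if h : j < 10 then (e ⟨j, h⟩ : H) else 1).prod = _
  rw [List.map_append]
  exact List.prod_append

theorem commute_xy : Commute (eW Cert.xw) (eW Cert.yw) := by
  show _ = _
  rw [← eW_append, ← eW_append]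
  refine Subtype.ext (Fi22.injective (Equiv.ext fun k => Fin.ext ?_))
  rw [π_eW _ (fun j hj => (List.mem_append.mp hj).elim (words_lt.1 j) (words_lt.2 j)),
    π_eW _ (fun j hj => (List.mem_append.mp hj).elim (words_lt.2 j) (words_lt.1 j))]
  exact Nat.eq_of_beq_eq_true (allFrom_spec _ _ _ commute_ok k.1 (Nat.zero_le _) (by have := k.2; omega))

theorem not_commute_twist : ⁅eW (twist Cert.xw), eW (twist Cert.yw)⁆ ≠ 1 := by
  intro h
  have h1 : eW (twist Cert.xw) * eW (twist Cert.yw) = eW (twist Cert.yw) * eW (twist Cert.xw) :=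
    commutatorElement_eq_one_iff_mul_comm.mp h
  rw [← eW_append, ← eW_append] at h1
  have h2 := congrArg (fun w : H => ((Fi22.π (w : Cfsg.Spor.Fi22) (⟨1, by norm_num⟩ : Fin 3510) : Fin 3510) : ℕ)) h1
  rw [π_eW _ (fun j hj => (List.mem_append.mp hj).elim (twist_lt.1 j) (twist_lt.2 j)),
    π_eW _ (fun j hj => (List.mem_append.mp hj).elim (twist_lt.2 j) (twist_lt.1 j))] at h2
  exact Nat.ne_of_beq_eq_false noncommute_ok h2

theorem central_of_card_two {A B : Type*} [Group A] [Group B] (f : A →* B) (h : Nat.card f.ker = 2) :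
    f.ker ≤ Subgroup.center A := by
  intro z hz
  rw [Subgroup.mem_center_iff]
  intro w
  by_cases hz1 : z = 1
  · simp [hz1]
  have hmem : w * z * w⁻¹ ∈ f.ker := (inferInstance : f.ker.Normal).conj_mem z hz w
  obtain ⟨v, _, hv⟩ := (Nat.card_eq_two_iff' (1 : f.ker)).mp h
  have e1 : (⟨z, hz⟩ : f.ker) = v := hv _ (fun h => hz1 (congrArg Subtype.val h))
  have e2 : (⟨w * z * w⁻¹, hmem⟩ : f.ker) = v := hv _ (fun h => hz1 (conj_eq_one_iff.mp (congrArg Subtype.val h)))
  exact mul_inv_eq_iff_eq_mul.mp (congrArg Subtype.val (e2.trans e1.symm))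

theorem commutator_H : _root_.commutator H = ⊤ := by
  haveI : Finite Cfsg.Spor.Fi22 := Fi22.finite
  obtain ⟨f, -, -, -, hs, -, hk, -⟩ := exists_homs
  have hmap : (_root_.commutator H).map f = ⊤ := by
    rw [Schur.map_commutator_eq_of_center f (by rw [MonoidHom.range_eq_top.mpr hs, top_sup_eq]), commutator_top]
  have hsup : _root_.commutator H ⊔ f.ker = ⊤ := by
    rw [← Subgroup.comap_map_eq, hmap, Subgroup.comap_top]
  have hidx : (_root_.commutator H).index ≤ 2 := by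
    have h2 : Function.Surjective fun k : f.ker => (QuotientGroup.mk (k : H) : H ⧸ _root_.commutator H) := by
      intro q
      obtain ⟨w, rfl⟩ := QuotientGroup.mk_surjective q
      obtain ⟨a, ha, b, hb, hab⟩ := Subgroup.mem_sup_of_normal_left.mp (hsup ▸ Subgroup.mem_top w :
        w ∈ _root_.commutator H ⊔ f.ker)
      refine ⟨⟨b, hb⟩, QuotientGroup.eq.mpr ?_⟩
      rw [← hab]
      simpa [mul_assoc] using (inferInstance : (_root_.commutator H).Normal).conj_mem a ha b⁻¹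
    exact (Nat.card_le_card_of_surjective _ h2).trans hk.le
  have h0 : (_root_.commutator H).index ≠ 0 := Subgroup.index_ne_zero_of_finite
  rcases (by omega :
      (_root_.commutator H).index = 1 ∨ (_root_.commutator H).index = 2) with h | h
  · exact Subgroup.index_eq_one.mp h
  · exact absurd h (no_index_two _)

theorem commutator_SU : _root_.commutator SU6 = ⊤ := by
  have hF4 : Fintype.card F4 = 2 ^ 2 := hF
  rw [eq_top_iff, ← CfsgLib.Classical.Herm.su_generated_transvections (F := F4) (q := 2) hF4 (n := 6)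
    (by omega) (by omega), Subgroup.closure_le]
  rintro A ⟨v, c, hv, hA⟩
  rw [SetLike.mem_coe, commutator_eq_closure]
  exact Subgroup.subset_closure
    (CfsgLib.Classical.Herm.transvection_mem_commutatorSet (F := F4) (q := 2) hF4 (by omega) A v c hv hA)

/-- The extension. -/
theorem exists_twelvefold : ∃ (D : Type) (_ : Group D) (_ : Finite D) (φ : D →* Q),
    Cfsg.IsStemExtension φ ∧ Nonempty (φ.ker ≃* Multiplicative (ZMod 3 × ZMod 2 × ZMod 2)) := by
  haveI : Finite Cfsg.Spor.Fi22 := Fi22.finite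
  obtain ⟨f, g, hf, hg, hfs, hgs, hfk, hgk⟩ := exists_homs
  set π0 : SU6 →* Q := QuotientGroup.mk' (Subgroup.center SU6)
  have hπs : Function.Surjective π0 := QuotientGroup.mk'_surjective _
  let p1 : H × H × SU6 →* H := MonoidHom.fst H (H × SU6)
  let p2 : H × H × SU6 →* H := (MonoidHom.fst H SU6).comp (MonoidHom.snd H (H × SU6))
  let p3 : H × H × SU6 →* SU6 := (MonoidHom.snd H SU6).comp (MonoidHom.snd H (H × SU6))
  let E0 : Subgroup (H × H × SU6) := (f.comp p1).eqLocus (π0.comp p3) ⊓ (g.comp p2).eqLocus (π0.comp p3)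
  let φ0 : E0 →* Q := (π0.comp p3).comp E0.subtype
  let q1 : E0 →* H := p1.comp E0.subtype
  let q2 : E0 →* H := p2.comp E0.subtype
  let q3 : E0 →* SU6 := p3.comp E0.subtype
  have hmk : ∀ (a b : H) (c : SU6), f a = π0 c → g b = π0 c → ((a, b, c) : H × H × SU6) ∈ E0 :=
    fun a b c h1 h2 => ⟨h1, h2⟩
  have hq1 : Function.Surjective q1 := fun a => by
    obtain ⟨c, hc⟩ := hπs (f a)
    obtain ⟨b, hb⟩ := hgs (f a)
    exact ⟨⟨(a, b, c), hmk a b c hc.symm (hb.trans hc.symm)⟩, rfl⟩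
  have hq2 : Function.Surjective q2 := fun b => by
    obtain ⟨c, hc⟩ := hπs (g b)
    obtain ⟨a, ha⟩ := hfs (g b)
    exact ⟨⟨(a, b, c), hmk a b c (ha.trans hc.symm) hc.symm⟩, rfl⟩
  have hq3 : Function.Surjective q3 := fun c => by
    obtain ⟨a, ha⟩ := hfs (π0 c)
    obtain ⟨b, hb⟩ := hgs (π0 c)
    exact ⟨⟨(a, b, c), hmk a b c ha hb⟩, rfl⟩
  have hφ0 : Function.Surjective φ0 := hπs.comp hq3
  have hk : ∀ x : E0, φ0 x = 1 → q1 x ∈ f.ker ∧ q2 x ∈ g.ker ∧ q3 x ∈ Subgroup.center SU6 := fun x hx =>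
    ⟨MonoidHom.mem_ker.mpr (x.2.1.trans hx), MonoidHom.mem_ker.mpr (x.2.2.trans hx),
      (QuotientGroup.eq_one_iff _).mp hx⟩
  have hcen0 : φ0.ker ≤ Subgroup.center E0 := by
    intro x hx
    obtain ⟨h1, h2, h3⟩ := hk x hx
    refine Subgroup.mem_center_iff.mpr fun z => Subtype.ext (Prod.ext ?_ (Prod.ext ?_ ?_))
    · exact Subgroup.mem_center_iff.mp (central_of_card_two f hfk h1) (q1 z)
    · exact Subgroup.mem_center_iff.mp (central_of_card_two g hgk h2) (q2 z)
    · exact Subgroup.mem_center_iff.mp h3 (q3 z)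
  set D : Subgroup E0 := _root_.commutator E0 with hD
  let φ : D →* Q := φ0.comp D.subtype
  have hDmap : D.map φ0 = ⊤ := by
    rw [hD, Schur.map_commutator_eq_of_center φ0 (by rw [MonoidHom.range_eq_top.mpr hφ0, top_sup_eq]), commutator_top]
  have hφ : Function.Surjective φ := fun q => by
    obtain ⟨x, hx, rfl⟩ : q ∈ D.map φ0 := by rw [hDmap]; exact Subgroup.mem_top _
    exact ⟨⟨x, hx⟩, rfl⟩
  have hperf : _root_.commutator D = ⊤ := by
    have h1 : (_root_.commutator D).map D.subtype = D := by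
      rw [Schur.map_commutator_eq_of_center D.subtype]
      rw [Subgroup.range_subtype]
      refine eq_top_iff.mpr fun x _ => ?_
      obtain ⟨y, hy⟩ := hφ (φ0 x)
      have hy' : φ0 (y : E0) = φ0 x := hy
      have hc : ((y : E0))⁻¹ * x ∈ Subgroup.center E0 :=
        hcen0 (by rw [MonoidHom.mem_ker, map_mul, map_inv, hy', inv_mul_cancel])
      have := Subgroup.mul_mem_sup y.2 hc
      simpa using this
    refine Subgroup.map_injective D.subtype_injective ?_
    rw [h1, ← MonoidHom.range_eq_map, Subgroup.range_subtype]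
  -- projections of the kernel
  have hproj : ∀ {A : Type} [Group A] (q : E0 →* A), Function.Surjective q → _root_.commutator A = ⊤ →
      ∀ a, ∃ x ∈ D, q x = a := by
    intro A _ q hq hA a
    have : a ∈ D.map q := by
      rw [hD, Schur.map_commutator_eq_of_center q (by rw [MonoidHom.range_eq_top.mpr hq, top_sup_eq]), hA]
      exact Subgroup.mem_top _
    exact this
  have hz1 : ∀ a ∈ f.ker, a ^ 2 = 1 := fun a ha => by
    have := pow_card_eq_one' (G := f.ker) (x := ⟨a, ha⟩)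
    rw [hfk] at this
    exact congrArg Subtype.val this
  have hz2 : ∀ a ∈ g.ker, a ^ 2 = 1 := fun a ha => by
    have := pow_card_eq_one' (G := g.ker) (x := ⟨a, ha⟩)
    rw [hgk] at this
    exact congrArg Subtype.val this
  have hz3 : ∀ a ∈ Subgroup.center SU6, a ^ 3 = 1 := fun a ha => by
    have := pow_card_eq_one' (G := Subgroup.center SU6) (x := ⟨a, ha⟩)
    rw [card_center] at this
    exact congrArg Subtype.val this
  -- an element of the kernel with trivial second and third coordinate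
  set hx := eW Cert.xw
  set hy := eW Cert.yw
  set kx := eW (twist Cert.xw)
  set ky := eW (twist Cert.yw)
  have hfx : ∀ l, (∀ j ∈ l, j < 10) → (∀ j ∈ twist l, j < 10) → f (eW (twist l)) = g (eW l) := fun l hl htl => by
    rw [map_eW f u' hf _ htl, map_twist, map_eW g (fun j => ((Cert.iw.getD j []).map u').prod) hg l hl]
  obtain ⟨ax, hax⟩ := hπs (g hx)
  obtain ⟨ay, hay⟩ := hπs (g hy)
  let dx : E0 := ⟨(kx, hx, ax), hmk _ _ _ ((hfx _ words_lt.1 twist_lt.1).trans hax.symm) hax.symm⟩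
  let dy : E0 := ⟨(ky, hy, ay), hmk _ _ _ ((hfx _ words_lt.2 twist_lt.2).trans hay.symm) hay.symm⟩
  have hd : ⁅dx, dy⁆ ∈ D := Subgroup.commutator_mem_commutator (Subgroup.mem_top _) (Subgroup.mem_top _)
  have hd1 : φ0 ⁅dx, dy⁆ = 1 := by
    rw [map_commutatorElement, commutatorElement_eq_one_iff_commute]
    show Commute (π0 ax) (π0 ay)
    rw [hax, hay]
    exact commute_xy.map g
  obtain ⟨hd11, -, hd13⟩ := hk _ hd1
  set c := q1 ⁅dx, dy⁆ with hc
  have hcne : c ≠ 1 := by rw [hc, map_commutatorElement]; exact not_commute_twist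
  have hd2 : q2 ⁅dx, dy⁆ = 1 := by
    rw [map_commutatorElement]; exact commutatorElement_eq_one_iff_commute.mpr commute_xy
  have hA : ⁅dx, dy⁆ ^ 3 ∈ D ∧ q1 (⁅dx, dy⁆ ^ 3) = c ∧ q2 (⁅dx, dy⁆ ^ 3) = 1 ∧ q3 (⁅dx, dy⁆ ^ 3) = 1 := by
    refine ⟨pow_mem hd 3, ?_, by rw [map_pow, hd2, one_pow], by rw [map_pow]; exact hz3 _ hd13⟩
    rw [map_pow, ← hc, pow_succ, hz1 c hd11, one_mul]
  have htwo : ∀ {A : Type} [Group A] (k : Subgroup A), Nat.card k = 2 → ∀ a ∈ k, a ≠ 1 → ∀ b ∈ k, b = 1 ∨ b = a := by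
    intro A _ k h a ha ha1 b hb
    by_cases hb1 : b = 1
    · exact Or.inl hb1
    obtain ⟨v, _, hv⟩ := (Nat.card_eq_two_iff' (1 : k)).mp h
    exact Or.inr (congrArg Subtype.val ((hv ⟨b, hb⟩ (fun h => hb1 (congrArg Subtype.val h))).trans
      (hv ⟨a, ha⟩ (fun h => ha1 (congrArg Subtype.val h))).symm))
  have hfirst : ∀ a ∈ f.ker, ∃ x ∈ D, q1 x = a ∧ q2 x = 1 ∧ q3 x = 1 := by
    intro a ha
    rcases htwo _ hfk c hd11 hcne a ha with rfl | rfl
    · exact ⟨1, one_mem _, map_one _, map_one _, map_one _⟩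
    · exact ⟨_, hA.1, hA.2.1, hA.2.2.1, hA.2.2.2⟩
  have hsecond : ∀ b ∈ g.ker, ∃ x ∈ D, q1 x = 1 ∧ q2 x = b ∧ q3 x = 1 := by
    intro b hb
    obtain ⟨x, hxD, hxb⟩ := hproj q2 hq2 commutator_H b
    have hx1 : φ0 x = 1 := by
      have : g (q2 x) = φ0 x := x.2.2
      rw [← this, hxb]; exact hb
    obtain ⟨h1, -, h3⟩ := hk x hx1
    obtain ⟨y', hyD, y1, y2, y3⟩ := hfirst _ (pow_mem h1 3)
    refine ⟨y'⁻¹ * x ^ 3, mul_mem (inv_mem hyD) (pow_mem hxD 3), ?_, ?_, ?_⟩
    · rw [map_mul, map_inv, map_pow, y1, inv_mul_cancel]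
    · rw [map_mul, map_inv, map_pow, y2, hxb, inv_one, one_mul, pow_succ, hz2 b hb, one_mul]
    · rw [map_mul, map_inv, map_pow, y3, inv_one, one_mul]; exact hz3 _ h3
  have hthird : ∀ z ∈ Subgroup.center SU6, ∃ x ∈ D, q1 x = 1 ∧ q2 x = 1 ∧ q3 x = z := by
    intro z hz
    obtain ⟨x, hxD, hxz⟩ := hproj q3 hq3 commutator_SU z
    have hx1 : φ0 x = 1 := by
      show π0 (q3 x) = 1
      rw [hxz]; exact (QuotientGroup.eq_one_iff _).mpr hz
    obtain ⟨h1, h2, -⟩ := hk x hx1
    refine ⟨x ^ 4, pow_mem hxD 4, ?_, ?_, ?_⟩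
    · rw [map_pow, show (4 : ℕ) = 2 * 2 from rfl, pow_mul, hz1 _ h1, one_pow]
    · rw [map_pow, show (4 : ℕ) = 2 * 2 from rfl, pow_mul, hz2 _ h2, one_pow]
    · rw [map_pow, hxz, pow_succ, hz3 z hz, one_mul]
  let Ψ : φ.ker →* Subgroup.center SU6 × f.ker × g.ker :=
    MonoidHom.mk' (fun x => (⟨q3 x.1.1, (hk _ x.2).2.2⟩, ⟨q1 x.1.1, (hk _ x.2).1⟩, ⟨q2 x.1.1, (hk _ x.2).2.1⟩))
      fun x y => rfl
  have hΨ : Function.Bijective Ψ := by
    refine ⟨fun x y h => ?_, fun p => ?_⟩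
    · have h3 : q3 x.1.1 = q3 y.1.1 := congrArg (fun p => p.1.1) h
      have h1 : q1 x.1.1 = q1 y.1.1 := congrArg (fun p => p.2.1.1) h
      have h2 : q2 x.1.1 = q2 y.1.1 := congrArg (fun p => p.2.2.1) h
      exact Subtype.ext (Subtype.ext (Subtype.ext (Prod.ext h1 (Prod.ext h2 h3))))
    · obtain ⟨z, a, b⟩ := p
      obtain ⟨x1, d1, a1, a2, a3⟩ := hfirst a a.2
      obtain ⟨x2, d2, b1, b2, b3⟩ := hsecond b b.2
      obtain ⟨x3, d3, c1, c2, c3⟩ := hthird z z.2
      have hx : φ0 (x1 * x2 * x3) = 1 := by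
        show π0 (q3 (x1 * x2 * x3)) = 1
        rw [map_mul q3, map_mul q3, a3, b3, c3, one_mul, one_mul]
        exact (QuotientGroup.eq_one_iff _).mpr z.2
      refine ⟨⟨⟨x1 * x2 * x3, mul_mem (mul_mem d1 d2) d3⟩, hx⟩, ?_⟩
      refine Prod.ext (Subtype.ext ?_) (Prod.ext (Subtype.ext ?_) (Subtype.ext ?_))
      · show q3 (x1 * x2 * x3) = _
        rw [map_mul, map_mul, a3, b3, c3, one_mul, one_mul]
      · show q1 (x1 * x2 * x3) = _
        rw [map_mul, map_mul, a1, b1, c1, mul_one, mul_one]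
      · show q2 (x1 * x2 * x3) = _
        rw [map_mul, map_mul, a2, b2, c2, one_mul, mul_one]
  haveI : Fact (Nat.Prime 3) := ⟨Nat.prime_three⟩
  haveI : Fact (Nat.Prime 2) := ⟨Nat.prime_two⟩
  let e3 : Subgroup.center SU6 ≃* Multiplicative (ZMod 3) := mulEquivOfPrimeCardEq (p := 3) card_center (by simp)
  let e2f : f.ker ≃* Multiplicative (ZMod 2) := mulEquivOfPrimeCardEq (p := 2) hfk (by simp)
  let e2g : g.ker ≃* Multiplicative (ZMod 2) := mulEquivOfPrimeCardEq (p := 2) hgk (by simp)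
  let em : Multiplicative (ZMod 3 × ZMod 2 × ZMod 2) ≃*
      Multiplicative (ZMod 3) × Multiplicative (ZMod 2) × Multiplicative (ZMod 2) :=
    (MulEquiv.prodMultiplicative (ZMod 3) (ZMod 2 × ZMod 2)).trans
      (MulEquiv.prodCongr (MulEquiv.refl _) (MulEquiv.prodMultiplicative (ZMod 2) (ZMod 2)))
  refine ⟨D, inferInstance, inferInstance, φ, ⟨hφ, fun x hx => ?_, fun x _ => ?_⟩,
    ⟨(MulEquiv.ofBijective Ψ hΨ).trans ((MulEquiv.prodCongr e3 (MulEquiv.prodCongr e2f e2g)).trans em.symm)⟩⟩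
  · exact Subgroup.mem_center_iff.mpr fun z => Subtype.ext (Subgroup.mem_center_iff.mp (hcen0 hx) z.1)
  · rw [hperf]; exact Subgroup.mem_top _

universe u

theorem main {F : Type u} [Field F] [Fintype F] (hF' : Fintype.card F = 4) :
    Cfsg.HasSchurMultiplier (Cfsg.PSU 6 F 2) (Multiplicative (ZMod 3 × ZMod 2 × ZMod 2)) := by
  let r : F ≃+* F4 := FiniteField.ringEquivOfCardEq (by
    rw [hF', CfsgLib.Recog.GF4.card_K4])
  let ε : Cfsg.PSU 6 F 2 ≃* Q := CfsgLib.Leech.Triangle.psuEquivRing r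
  haveI : Finite (Cfsg.PSU 6 F 2) := Finite.of_equiv _ ε.symm.toEquiv
  have hbound : ∀ (Γ : Type u) [Group Γ] (σ : Γ →* Cfsg.PSU 6 F 2), Cfsg.IsStemExtension σ →
      Nat.card σ.ker ≤ 12 := by
    intro Γ _ σ hσ
    have hk : (ε.toMonoidHom.comp σ).ker = σ.ker := by
      ext x
      show ε (σ x) = 1 ↔ σ x = 1
      rw [← map_one ε, ε.injective.eq_iff]
    rw [← hk]
    exact card_ker_le _ ⟨ε.surjective.comp hσ.1, hk ▸ hσ.2.1, hk ▸ hσ.2.2⟩
  obtain ⟨D, _, _, φ, ⟨hs, hc, hd⟩, ⟨eD⟩⟩ := exists_twelvefold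
  let dn : ULift.{u} D ≃* D := MulEquiv.ulift
  set σ0 : ULift.{u} D →* Cfsg.PSU 6 F 2 := ε.symm.toMonoidHom.comp (φ.comp dn.toMonoidHom) with hσ0
  have hk0 : ∀ x, x ∈ σ0.ker ↔ dn x ∈ φ.ker := fun x => by
    rw [MonoidHom.mem_ker, MonoidHom.mem_ker]
    show ε.symm (φ (dn x)) = 1 ↔ _
    rw [← map_one ε.symm, ε.symm.injective.eq_iff]
  have hstem : Cfsg.IsStemExtension σ0 := by
    refine ⟨ε.symm.surjective.comp (hs.comp dn.surjective), fun x hx => ?_, fun x hx => ?_⟩
    · refine Subgroup.mem_center_iff.mpr fun z => dn.injective ?_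
      rw [map_mul, map_mul]
      exact Subgroup.mem_center_iff.mp (hc ((hk0 x).mp hx)) _
    · have h := hd ((hk0 x).mp hx)
      have hle : (_root_.commutator D).map dn.symm.toMonoidHom ≤ _root_.commutator (ULift.{u} D) := by
        rw [_root_.commutator_def, _root_.commutator_def, Subgroup.map_commutator]
        exact Subgroup.commutator_mono le_top le_top
      simpa using hle ⟨dn x, h, rfl⟩
  let eK : σ0.ker ≃* φ.ker :=
    { toFun := fun x => ⟨dn x.1, (hk0 _).mp x.2⟩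
      invFun := fun x => ⟨dn.symm x.1, (hk0 _).mpr (by rw [dn.apply_symm_apply]; exact x.2)⟩
      left_inv := fun x => Subtype.ext (dn.symm_apply_apply _)
      right_inv := fun x => Subtype.ext (dn.apply_symm_apply _)
      map_mul' := fun x y => Subtype.ext (map_mul dn _ _) }
  refine CfsgLib.Schur.hasSchurMultiplier_iff.mpr ?_
  obtain ⟨hM1, hM2⟩ := (CfsgLib.Schur.hasSchurMultiplier_M :
    Cfsg.HasSchurMultiplier (Cfsg.PSU 6 F 2) (CfsgLib.Schur.M (Cfsg.PSU 6 F 2)))
  obtain ⟨π, hπ⟩ := hM2 _ σ0 hstem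
  let π' := (eK.trans eD).toMonoidHom.comp π
  have hπ' : Function.Surjective π' := (eK.trans eD).surjective.comp hπ
  obtain ⟨Γ, _, _, σ, hσ, ⟨eM⟩⟩ := hM1
  haveI : Finite (CfsgLib.Schur.M (Cfsg.PSU 6 F 2)) := CfsgLib.Schur.M_finite _
  have hle : Nat.card (CfsgLib.Schur.M (Cfsg.PSU 6 F 2)) ≤ Nat.card (Multiplicative (ZMod 3 × ZMod 2 × ZMod 2)) := by
    rw [← Nat.card_congr eM.toEquiv]
    refine (hbound Γ σ hσ).trans ?_
    rw [Nat.card_congr Multiplicative.toAdd, Nat.card_prod, Nat.card_prod, Nat.card_zmod, Nat.card_zmod]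
  exact ⟨(MulEquiv.ofBijective π' (hπ'.bijective_of_nat_card_le hle)).symm⟩

end CfsgLib.SchurU62
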