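import Cfsg.Agent.Lib.CosetEnum.Chain

set_option autoImplicit false
set_option linter.all false

/-! Relators between six transvection lifts for `U₆(2)`. -/

namespace CfsgLib.SchurU62

open CfsgLib.CosetEnum

variable {X : Type*} [Group X]

/-- Elements satisfying a list of relators in involutory letters. -/
structure Rels (ls : List (List ℕ)) (g : ℕ → X) : Prop where
  h15 : g 15 = 1
  hinv : ∀ x < 16, g (linv 18364758544493064720 x) = (g x)⁻¹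
  words : ∀ l ∈ ls, (∀ x ∈ l, x < 16) ∧ (l.map g).prod = 1

/-- The relators. -/
def ls : List (List ℕ) := [[0, 0],
  [0, 1, 0, 1, 0, 1],
  [0, 2, 0, 2, 0, 2],
  [0, 3, 0, 3],
  [0, 4, 0, 4],
  [0, 5, 0, 5, 0, 5],
  [1, 1],
  [1, 2, 1, 2, 1, 2],
  [1, 3, 1, 3, 1, 3],
  [1, 4, 1, 4],
  [1, 5, 1, 5],
  [2, 2],
  [2, 3, 2, 3, 2, 3],
  [2, 4, 2, 4],
  [2, 5, 2, 5],
  [3, 3],
  [3, 4, 3, 4, 3, 4],
  [3, 5, 3, 5],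
  [4, 4],
  [4, 5, 4, 5],
  [5, 5],
  [2, 0, 2, 1, 2, 0, 2, 1, 2, 0, 2, 1],
  [0, 2, 1, 2, 0, 3, 0, 2, 1, 2, 0, 3, 0, 2, 1, 2, 0, 3],
  [0, 2, 3, 2, 0, 1, 0, 2, 3, 2, 0, 1, 0, 2, 3, 2, 0, 1],
  [4, 3, 1, 0, 5, 2, 0, 1, 3, 2, 3, 1, 0, 2, 5, 0, 1, 3, 4, 3, 1, 0, 5, 2, 0, 1, 3, 2, 3, 1, 0, 2, 5, 0, 1, 3]]

end CfsgLib.SchurU62
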