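import Cfsg.Agent.Lib.Schur.U62.Lifts
import Cfsg.Agent.Lib.Schur.U62.L1
import Cfsg.Agent.Lib.Schur.U62.L2
import Cfsg.Agent.Lib.Schur.U62.L3
import Cfsg.Agent.Lib.Schur.U62.L4
import Cfsg.Agent.Lib.Schur.U62.L5
import Cfsg.Agent.Lib.Schur.U62.T

/-!
The kernel of a stem extension of `PSU₆(2)` has at most twelve elements.
-/

set_option autoImplicit false
set_option linter.unusedSectionVars false

namespace CfsgLib.SchurU62

open CfsgLib.CosetEnum CfsgLib.CosetEnum.Fi22U6 CfsgLib.Schur.CoxeterCover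
open scoped commutatorElement

local notation "Q" => Cfsg.PSU 6 F4 2

theorem step_le {Y : Type*} [Group Y] {K H : Subgroup Y} {N c : ℕ} (hc : CoversCosets K H N)
    (hH : Finite H ∧ Nat.card H ≤ c) : Finite K ∧ Nat.card K ≤ N * c := by
  haveI := hH.1
  exact ⟨(hc.card_le).1, (hc.card_le).2.trans (Nat.mul_le_mul_left _ hH.2)⟩

theorem card_levels {Y : Type*} [Group Y] {g : ℕ → Y} (h : Rels ls g) :
    Finite (Level g [0, 1, 2, 3, 4, 5]) ∧ Nat.card (Level g [0, 1, 2, 3, 4, 5]) ≤ 220723937280 := by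
  have h0 : Finite (Level g []) ∧ Nat.card (Level g []) ≤ 1 := ⟨(card_level_nil g).1, (card_level_nil g).2.le⟩
  have h1 := step_le (L1.covers h) h0
  have h2 := step_le (L2.covers h) h1
  have h3 := step_le (L3.covers h) h2
  have h4 := step_le (L4.covers h) h3
  have h5 := step_le (L5.covers h) h4
  have h6 := step_le (T.covers h) h5
  exact ⟨h6.1, h6.2.trans (by norm_num)⟩

/-- Where a relator comes from. -/
def relFrom (l : List ℕ) : Bool :=
  ((List.range 6).any fun i => decide (l = [i, i])) ||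
    Cert.recs.any fun r => match r with
      | (m, o, w, i, j, _) => decide (o ≤ l.length) &&
          decide (l.drop o ++ l.take o = (List.replicate m (w ++ [i] ++ w.reverse ++ [j])).flatten)

theorem ls_from : ls.all relFrom = true := by decide +kernel

theorem ls_lt : ∀ l ∈ ls, ∀ x ∈ l, x < 16 := by decide +kernel

theorem perm_prod_eq_one {Y : Type*} [Group Y] {a b : Y} (h : b * a = 1) : a * b = 1 := by
  rw [mul_eq_one_iff_eq_inv] at h ⊢
  rw [h, inv_inv]

section lifts

variable {Γ : Type*} [Group Γ]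

/-- The letters in the extended group. -/
def gX (X : ℕ → Γ) [(relSubgroup (X 0 * X 0) (1 : Γ)).Normal] (x : ℕ) :
    (Γ × Multiplicative ℤ) ⧸ relSubgroup (X 0 * X 0) (1 : Γ) :=
  if x < 6 then QuotientGroup.mk (y X x, Multiplicative.ofAdd (1 : ℤ)) else 1

variable (σ : Γ →* Q) (hc : ∀ a, σ a = 1 → ∀ b : Γ, Commute a b)
  (X : ℕ → Γ) (hX : ∀ i, σ (X i) = t i) [(relSubgroup (X 0 * X 0) (1 : Γ)).Normal]

include hc hX in
theorem gX_sq {x : ℕ} (hx : x < 6) : gX X x * gX X x = 1 := by
  rw [gX, if_pos hx, ← QuotientGroup.mk_mul, QuotientGroup.eq_one_iff]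
  refine Subgroup.subset_closure (Or.inl ?_)
  exact Prod.ext (y_sq σ hc X hX x) rfl

theorem prod_gX : ∀ w : List ℕ, (∀ x ∈ w, x < 6) → (w.map (gX X)).prod =
    QuotientGroup.mk ((w.map (y X)).prod, Multiplicative.ofAdd (w.length : ℤ)) := by
  intro w
  induction w with
  | nil => intro _; simp; rfl
  | cons k r ih =>
    intro hw
    rw [List.map_cons, List.prod_cons, ih (fun j hj => hw j (List.mem_cons_of_mem _ hj)), gX, if_pos (hw k (by simp)),
      ← QuotientGroup.mk_mul]
    refine congrArg _ (Prod.ext ?_ ?_)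
    · simp
    · show Multiplicative.ofAdd (1 : ℤ) * Multiplicative.ofAdd (r.length : ℤ) = _
      rw [← ofAdd_add, List.length_cons]; push_cast; congr 1; ring

include hc hX in
theorem prod_gX_reverse : ∀ w : List ℕ, (∀ x ∈ w, x < 6) → (w.reverse.map (gX X)).prod = ((w.map (gX X)).prod)⁻¹ := by
  intro w
  induction w with
  | nil => simp
  | cons k r ih =>
    intro hw
    rw [List.reverse_cons, List.map_append, List.prod_append, ih (fun j hj => hw j (List.mem_cons_of_mem _ hj)),
      List.map_cons, List.prod_cons, List.map_cons, List.map_nil, List.prod_cons, List.prod_nil, mul_one, mul_inv_rev,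
      inv_eq_of_mul_eq_one_right (gX_sq σ hc X hX (hw k (by simp)))]

include hc hX in
theorem conj_gX (w : List ℕ) (hw : ∀ x ∈ w, x < 6) {i : ℕ} (hi : i < 6) :
    ((w ++ [i] ++ w.reverse).map (gX X)).prod =
      QuotientGroup.mk ((w.map (y X)).prod * y X i * ((w.map (y X)).prod)⁻¹, Multiplicative.ofAdd (1 : ℤ)) := by
  rw [List.map_append, List.map_append, List.prod_append, List.prod_append, prod_gX_reverse σ hc X hX w hw,
    prod_gX X w hw, List.map_singleton, List.prod_singleton, gX, if_pos hi, ← QuotientGroup.mk_inv,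
    ← QuotientGroup.mk_mul, ← QuotientGroup.mk_mul]
  refine congrArg _ (Prod.ext rfl ?_)
  show Multiplicative.ofAdd _ * Multiplicative.ofAdd (1 : ℤ) * (Multiplicative.ofAdd _)⁻¹ = _
  rw [mul_comm, ← mul_assoc, inv_mul_cancel, one_mul]

include hc hX in
theorem rels : Rels ls (gX X) := by
  refine ⟨if_neg (by omega), fun x hx => ?_, fun l hl => ⟨ls_lt l hl, ?_⟩⟩
  · have hlin : linv 18364758544493064720 x = x := by
      interval_cases x <;> decide +kernel
    rw [hlin]
    by_cases h : x < 6
    · exact (inv_eq_of_mul_eq_one_right (gX_sq σ hc X hX h)).symm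
    · rw [gX, if_neg h, inv_one]
  have h := List.all_eq_true.mp ls_from l hl
  simp only [relFrom, Bool.or_eq_true, decide_eq_true_eq, List.any_eq_true] at h
  rcases h with ⟨i, hi, rfl⟩ | ⟨⟨m, o, w, i, j, d⟩, hr, h⟩
  · simp [gX_sq σ hc X hX (List.mem_range.mp hi)]
  simp only [Bool.and_eq_true, decide_eq_true_eq] at h
  obtain ⟨hw, hi, hj, hcase⟩ := rec_spec σ hc X hX hr
  rw [← List.take_append_drop o l, List.map_append, List.prod_append]
  refine perm_prod_eq_one ?_
  rw [← List.prod_append, ← List.map_append, h.2, List.map_flatten, List.map_replicate, List.prod_flatten,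
    List.map_replicate, List.prod_replicate, List.map_append, List.prod_append, conj_gX σ hc X hX w hw hi,
    List.map_singleton, List.prod_singleton]
  set A := (w.map (y X)).prod * y X i * ((w.map (y X)).prod)⁻¹
  set a : (Γ × Multiplicative ℤ) ⧸ relSubgroup (X 0 * X 0) (1 : Γ) :=
    QuotientGroup.mk (A, Multiplicative.ofAdd (1 : ℤ)) with ha
  have haa : a * a = 1 := by
    rw [ha, ← QuotientGroup.mk_mul, QuotientGroup.eq_one_iff]
    refine Subgroup.subset_closure (Or.inl (Prod.ext ?_ rfl))
    show A * A = X 0 * X 0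
    calc A * A = (w.map (y X)).prod * (y X i * y X i) * ((w.map (y X)).prod)⁻¹ := by simp only [A]; group
      _ = X 0 * X 0 := by rw [y_sq σ hc X hX, ← (sq_comm σ hc X hX _).eq, mul_inv_cancel_right]
  have hbb := gX_sq σ hc X hX hj
  rcases hcase with ⟨rfl, hcm⟩ | ⟨rfl, hbr⟩
  · have hcm' : a * gX X j = gX X j * a := by
      rw [ha, gX, if_pos hj, ← QuotientGroup.mk_mul, ← QuotientGroup.mk_mul]
      exact congrArg _ (Prod.ext hcm.eq (mul_comm _ _))
    rw [pow_two]
    nth_rewrite 2 [hcm']
    rw [mul_assoc, ← mul_assoc (gX X j) (gX X j), hbb, one_mul, haa]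
  · have hbr' : a * gX X j * a = gX X j * a * gX X j := by
      rw [ha, gX, if_pos hj, ← QuotientGroup.mk_mul, ← QuotientGroup.mk_mul, ← QuotientGroup.mk_mul,
        ← QuotientGroup.mk_mul]
      exact congrArg _ (Prod.ext hbr (by
        show Multiplicative.ofAdd (1 : ℤ) * Multiplicative.ofAdd 1 * Multiplicative.ofAdd 1 =
          Multiplicative.ofAdd (1 : ℤ) * Multiplicative.ofAdd 1 * Multiplicative.ofAdd 1
        rfl))
    calc (a * gX X j) ^ 3 = (a * gX X j * a) * (gX X j * a * gX X j) := by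
          simp only [pow_succ, pow_zero, one_mul, mul_assoc]
      _ = (a * gX X j * a) * (a * gX X j * a) := by rw [← hbr']
      _ = a * (gX X j * ((a * a) * gX X j)) * a := by simp only [mul_assoc]
      _ = 1 := by rw [haa, one_mul, hbb, mul_one, haa]

end lifts

theorem psu_simple : IsSimpleGroup Q := CfsgLib.Classical.Herm.isSimpleGroup_psu hF (by omega) (by omega)

theorem commutator_top : _root_.commutator Q = ⊤ := by
  haveI := psu_simple
  rcases (inferInstance : (_root_.commutator Q).Normal).eq_bot_or_eq_top with h | h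
  · exfalso
    have hcen : Subgroup.center Q = ⊤ := by
      refine eq_top_iff.mpr fun x _ => Subgroup.mem_center_iff.mpr fun z => ?_
      have hm : ⁅z, x⁆ ∈ _root_.commutator Q :=
        Subgroup.commutator_mem_commutator (Subgroup.mem_top _) (Subgroup.mem_top _)
      rw [h, Subgroup.mem_bot] at hm
      exact commutatorElement_eq_one_iff_mul_comm.mp hm
    haveI : Finite Q := inferInstance
    rw [center_eq_bot_of_simple (K := Q) (by rw [card_PSU]; norm_num)] at hcen
    exact bot_ne_top hcen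
  · exact h

/-- Stem extensions of `PSU₆(2)` have kernels of order at most twelve. -/
theorem card_ker_le {Γ : Type*} [Group Γ] (σ : Γ →* Q) (hσ : Cfsg.IsStemExtension σ) :
    Nat.card σ.ker ≤ 12 := by
  obtain ⟨hs, hcen, hder⟩ := hσ
  have hc : ∀ a, σ a = 1 → ∀ b : Γ, Commute a b := fun a ha b =>
    (Subgroup.mem_center_iff.mp (hcen (MonoidHom.mem_ker.mpr ha)) b).symm
  choose X hX using fun i => hs (t i)
  have hN : (relSubgroup (X 0 * X 0) (1 : Γ)).Normal :=
    relSubgroup_normal (sq_comm σ hc X hX) fun b => Commute.one_left b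
  haveI := hN
  -- the lifts generate
  set K := Subgroup.closure {b | ∃ i < 6, b = y X i} with hKdef
  have hmap : K.map σ = ⊤ := by
    refine eq_top_iff.mpr (closure_t.symm.le.trans ((Subgroup.closure_le _).mpr ?_))
    rintro _ ⟨i, hi, rfl⟩
    exact ⟨y X i, Subgroup.subset_closure ⟨i, hi, rfl⟩, σ_y σ X hX hi⟩
  have hdec : ∀ b : Γ, ∃ k ∈ K, ∀ c, Commute (k⁻¹ * b) c := fun b => by
    obtain ⟨k, hk, hkb⟩ : σ b ∈ K.map σ := by rw [hmap]; exact Subgroup.mem_top _
    exact ⟨k, hk, hc _ (by rw [map_mul, map_inv, hkb, inv_mul_cancel])⟩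
  have hperf : _root_.commutator Γ = ⊤ := by
    refine eq_top_iff.mpr fun b _ => ?_
    have : σ b ∈ (_root_.commutator Γ).map σ := by
      rw [Schur.map_commutator_eq_of_center σ (by rw [MonoidHom.range_eq_top.mpr hs, top_sup_eq]), commutator_top]
      exact Subgroup.mem_top _
    obtain ⟨k, hk, hkb⟩ := this
    have : k⁻¹ * b ∈ _root_.commutator Γ := hder (by rw [MonoidHom.mem_ker, map_mul, map_inv, hkb, inv_mul_cancel])
    simpa using mul_mem hk this
  have hle : _root_.commutator Γ ≤ K := by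
    rw [commutator_def, Subgroup.commutator_le]
    intro a _ b _
    obtain ⟨k, hk, hka⟩ := hdec a
    obtain ⟨m, hm, hmb⟩ := hdec b
    have e : ⁅a, b⁆ = ⁅k, m⁆ := by
      calc ⁅a, b⁆ = ⁅k * (k⁻¹ * a), m * (m⁻¹ * b)⁆ := by rw [mul_inv_cancel_left, mul_inv_cancel_left]
        _ = ⁅k, m⁆ := Schur.commutatorElement_mul_center
            (Subgroup.mem_center_iff.mpr fun c => (hka c).eq.symm)
            (Subgroup.mem_center_iff.mpr fun c => (hmb c).eq.symm)
    rw [e, commutatorElement_def]
    exact mul_mem (mul_mem (mul_mem hk hm) (inv_mem hk)) (inv_mem hm)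
  -- the extended group
  set N := relSubgroup (X 0 * X 0) (1 : Γ)
  set mkN := QuotientGroup.mk' N
  obtain ⟨hfin, hcard⟩ := card_levels (rels σ hc X hX)
  set L := Level (gX X) [0, 1, 2, 3, 4, 5]
  set J := L.comap mkN with hJ
  have hyJ : ∀ i < 6, (y X i, Multiplicative.ofAdd (1 : ℤ)) ∈ J := fun i hi => by
    rw [hJ, Subgroup.mem_comap]
    have := mem_level (gX X) (sel := [0, 1, 2, 3, 4, 5]) (x := i) (by revert i; decide)
    rwa [gX, if_pos hi] at this
  have hproj : J.map (MonoidHom.fst Γ (Multiplicative ℤ)) = ⊤ := by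
    refine eq_top_iff.mpr ((hperf.symm.le.trans hle).trans ((Subgroup.closure_le _).mpr ?_))
    rintro _ ⟨i, hi, rfl⟩
    exact ⟨_, hyJ i hi, rfl⟩
  have hzero : ∀ b : Γ, (b, (1 : Multiplicative ℤ)) ∈ J := by
    intro b
    have hb : b ∈ _root_.commutator Γ := by rw [hperf]; exact Subgroup.mem_top _
    have hle' : _root_.commutator Γ ≤ J.comap (MonoidHom.inl Γ (Multiplicative ℤ)) := by
      rw [commutator_def, Subgroup.commutator_le]
      intro a _ c _
      obtain ⟨a', ha', rfl⟩ : a ∈ J.map (MonoidHom.fst Γ (Multiplicative ℤ)) := by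
        rw [hproj]; exact Subgroup.mem_top _
      obtain ⟨c', hc', rfl⟩ : c ∈ J.map (MonoidHom.fst Γ (Multiplicative ℤ)) := by
        rw [hproj]; exact Subgroup.mem_top _
      rw [Subgroup.mem_comap, MonoidHom.inl_apply]
      have hm := mul_mem (mul_mem (mul_mem ha' hc') (inv_mem ha')) (inv_mem hc')
      convert hm using 1
      refine Prod.ext ?_ ?_
      · simp [commutatorElement_def]
      · simp
    exact hle' hb
  have hone : ((1 : Γ), Multiplicative.ofAdd (1 : ℤ)) ∈ J := by
    have h := mul_mem (hzero (y X 0)⁻¹) (hyJ 0 (by omega))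
    simpa using h
  let f : Γ × Fin 2 → L := fun p =>
    ⟨mkN (p.1, Multiplicative.ofAdd ((p.2 : ℕ) : ℤ)), by
      have h := mul_mem (hzero p.1) (pow_mem hone (p.2 : ℕ))
      rw [hJ, Subgroup.mem_comap] at h
      convert h using 2
      refine Prod.ext (by simp) ?_
      simp [← ofAdd_nsmul]⟩
  have hinj : Function.Injective f := by
    rintro ⟨a, k⟩ ⟨b, l⟩ h
    have h1 : (QuotientGroup.mk (a, Multiplicative.ofAdd ((k : ℕ) : ℤ)) : (Γ × Multiplicative ℤ) ⧸ N) =
        QuotientGroup.mk (b, Multiplicative.ofAdd ((l : ℕ) : ℤ)) := congrArg Subtype.val h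
    rw [QuotientGroup.eq] at h1
    have key : ∀ x ∈ N, ∃ n : ℤ, x = ((X 0 * X 0) ^ n, Multiplicative.ofAdd (2 * n)) := by
      intro x hx
      induction hx using Subgroup.closure_induction with
      | mem x hx =>
        rcases hx with rfl | rfl
        · exact ⟨1, by simp⟩
        · exact ⟨0, by simp [Prod.ext_iff]⟩
      | one => exact ⟨0, by simp [Prod.ext_iff]⟩
      | mul x z _ _ hx hz =>
        obtain ⟨n, rfl⟩ := hx
        obtain ⟨n', rfl⟩ := hz
        exact ⟨n + n', Prod.ext (zpow_add _ _ _).symm (by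
          show Multiplicative.ofAdd _ * Multiplicative.ofAdd _ = _
          rw [← ofAdd_add, mul_add])⟩
      | inv x _ hx =>
        obtain ⟨n, rfl⟩ := hx
        exact ⟨-n, Prod.ext (zpow_neg _ _).symm (by
          show (Multiplicative.ofAdd _)⁻¹ = _
          rw [← ofAdd_neg, mul_neg])⟩
    obtain ⟨n, hn⟩ := key _ h1
    have h2 : -((k : ℕ) : ℤ) + ((l : ℕ) : ℤ) = 2 * n := congrArg (fun p => Multiplicative.toAdd p.2) hn
    have hk := k.2
    have hl := l.2
    have hn0 : n = 0 := by omega
    have hkl : k = l := Fin.ext (by omega)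
    have h3 : a⁻¹ * b = 1 := by
      have := congrArg Prod.fst hn
      simpa [hn0] using this
    rw [hkl, inv_mul_eq_one.mp h3]
  haveI : Finite L := hfin
  haveI hG2 : Finite (Γ × Fin 2) := Finite.of_injective f hinj
  haveI : Finite Γ := Finite.of_injective (fun a : Γ => (a, (0 : Fin 2))) fun a b h => congrArg Prod.fst h
  have h4 := (Nat.card_le_card_of_injective f hinj).trans hcard
  rw [Nat.card_prod, Nat.card_fin] at h4
  have h5 := σ.ker.index_mul_card
  rw [Subgroup.index_ker, MonoidHom.range_eq_top.mpr hs, Subgroup.card_top, card_PSU] at h5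
  omega

end CfsgLib.SchurU62
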